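import Groth.Prelude.Def_CAlg
import Mathlib.RingTheory.Ideal.AssociatedPrime.Basic
import Mathlib.RingTheory.Ideal.AssociatedPrime.Finiteness
import Mathlib.RingTheory.Ideal.AssociatedPrime.Localization
import Mathlib.RingTheory.Nakayama
import Mathlib.RingTheory.QuotSMulTop
import Mathlib.RingTheory.Regular.RegularSequence

/-!
Depth at least one and at least two, in terms of associated primes.
-/

universe u v

namespace Groth.Agent.Alg6

open Submodule IsLocalRing RingTheory.Sequence

variable {R : Type u} [CommRing R] {M : Type v} [AddCommGroup M] [Module R M]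

/-- Membership in the set of associated primes over a Noetherian ring. -/
theorem mem_ass_iff [IsNoetherianRing R] {p : Ideal R} :
    p ∈ associatedPrimes R M ↔ p.IsPrime ∧ ∃ z : M, ∀ a : R, a ∈ p ↔ a • z = 0 := by
  rw [AssociatedPrimes.mem_iff, isAssociatedPrime_iff]
  refine and_congr_right fun _ => exists_congr fun z => ?_
  simp only [SetLike.ext_iff, Submodule.mem_colon_singleton, Submodule.mem_bot]

/-- An element killed by `I`, not zero, is killed by an associated prime containing `I`. -/
theorem exists_ass_ge [IsNoetherianRing R] {z : M} (hz : z ≠ 0) :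
    ∃ p ∈ associatedPrimes R M, ∀ a : R, a • z = 0 → a ∈ p := by
  obtain ⟨P, hP, hx⟩ := exists_le_isAssociatedPrime_of_isNoetherianRing R z hz
  exact ⟨P, hP, fun a ha => hx (by rw [mem_colon_singleton, Submodule.mem_bot]; exact ha)⟩

theorem isSMulRegular_iff_forall_ass [IsNoetherianRing R] {x : R} :
    IsSMulRegular M x ↔ ∀ p ∈ associatedPrimes R M, x ∉ p := by
  rw [isSMulRegular_iff_right_eq_zero_of_smul]
  constructor
  · intro h p hp hxp
    obtain ⟨hpp, z, hz⟩ := mem_ass_iff.mp hp
    have := h z ((hz x).mp hxp)
    exact hpp.ne_top (Ideal.eq_top_of_isUnit_mem _ ((hz 1).mpr (by simp [this])) isUnit_one)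
  · intro h z hz
    by_contra hne
    obtain ⟨p, hp, hle⟩ := exists_ass_ge (R := R) hne
    exact h p hp (hle x hz)

/-- An ideal contains a regular element iff it lies in no associated prime. -/
theorem exists_isSMulRegular_mem_iff [IsNoetherianRing R] [Module.Finite R M] (I : Ideal R) :
    (∃ x ∈ I, IsSMulRegular M x) ↔ ∀ p ∈ associatedPrimes R M, ¬ I ≤ p := by
  constructor
  · rintro ⟨x, hxI, hx⟩ p hp hle
    exact isSMulRegular_iff_forall_ass.mp hx p hp (hle hxI)
  · intro h
    by_contra hc
    push Not at hc
    have hsub : (I : Set R) ⊆ ⋃ p ∈ ((associatedPrimes.finite R M).toFinset : Set (Ideal R)), (p : Set R) := by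
      intro x hx
      have := hc x hx
      rw [isSMulRegular_iff_forall_ass] at this
      push Not at this
      obtain ⟨p, hp, hxp⟩ := this
      exact Set.mem_biUnion (by simpa using hp) hxp
    obtain ⟨p, hp, hle⟩ := (Ideal.subset_union_prime ⊥ ⊥ (fun p hp _ _ =>
      IsAssociatedPrime.isPrime (M := M) (AssociatedPrimes.mem_iff.mp ((associatedPrimes.finite R M).mem_toFinset.mp hp)))).mp hsub
    exact h p (by simpa using hp) hle

theorem mem_pointwise_smul_top_iff {x : R} {z : M} :
    (Submodule.Quotient.mk z : QuotSMulTop x M) = 0 ↔ ∃ w : M, x • w = z := by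
  rw [Submodule.Quotient.mk_eq_zero, Submodule.mem_smul_pointwise_iff_exists]
  simp

/-- Swapping the regular element used to test depth two. -/
theorem ass_quot_swap [IsNoetherianRing R] {x y : R} (hx : IsSMulRegular M x) (hy : IsSMulRegular M y)
    {p : Ideal R} (hyp : y ∈ p) (h : p ∈ associatedPrimes R (QuotSMulTop x M)) :
    p ∈ associatedPrimes R (QuotSMulTop y M) := by
  obtain ⟨hp, zb, hz⟩ := mem_ass_iff.mp h
  obtain ⟨z, rfl⟩ := Submodule.Quotient.mk_surjective _ zb
  obtain ⟨w, hw⟩ := mem_pointwise_smul_top_iff.mp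
    (show (Submodule.Quotient.mk (y • z) : QuotSMulTop x M) = 0 by
      rw [Submodule.Quotient.mk_smul]; exact (hz y).mp hyp)
  refine mem_ass_iff.mpr ⟨hp, Submodule.Quotient.mk w, fun a => ?_⟩
  rw [hz a, ← Submodule.Quotient.mk_smul, ← Submodule.Quotient.mk_smul,
    mem_pointwise_smul_top_iff, mem_pointwise_smul_top_iff]
  constructor
  · rintro ⟨u, hu⟩
    refine ⟨u, hx ?_⟩
    show x • y • u = x • a • w
    rw [smul_comm x a w, hw, smul_comm x y u, hu, smul_comm y a z]
  · rintro ⟨u, hu⟩
    refine ⟨u, hy ?_⟩
    show y • x • u = y • a • z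
    rw [smul_comm y a z, ← hw, smul_comm a x w, ← hu, smul_comm x y u]

/-- A weakly regular sequence inside an ideal bounds the depth from below. -/
theorem length_le_idealDepth {I : Ideal R} {rs : List R} (h : IsWeaklyRegular M rs)
    (hI : ∀ r ∈ rs, r ∈ I) : (rs.length : ℕ∞) ≤ LocCoh.idealDepth I M := by
  unfold LocCoh.idealDepth
  split_ifs
  · exact le_top
  · exact le_iSup₂_of_le rs ⟨h, hI⟩ le_rfl

/-- If `IM ≠ M` the depth is attained by weakly regular sequences. -/
theorem exists_length_ge_of_le_idealDepth {I : Ideal R} (hne : I • (⊤ : Submodule R M) ≠ ⊤) {n : ℕ}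
    (h : (n : ℕ∞) ≤ LocCoh.idealDepth I M) :
    ∃ rs : List R, IsWeaklyRegular M rs ∧ (∀ r ∈ rs, r ∈ I) ∧ n ≤ rs.length := by
  by_contra hc
  push Not at hc
  rcases n.eq_zero_or_pos with rfl | hn
  · exact (hc [] (IsWeaklyRegular.nil R M) (by simp)).false.elim
  · have : LocCoh.idealDepth I M ≤ ((n - 1 : ℕ) : ℕ∞) := by
      rw [LocCoh.idealDepth, if_neg hne]
      refine iSup₂_le fun rs hrs => ?_
      have := hc rs hrs.1 hrs.2
      exact_mod_cast (by omega : rs.length ≤ n - 1)
    have := h.trans this
    have : n ≤ n - 1 := by exact_mod_cast this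
    omega

section Local

variable [IsLocalRing R] [IsNoetherianRing R] [Module.Finite R M]

theorem maximal_smul_top_ne_top [Nontrivial M] :
    maximalIdeal R • (⊤ : Submodule R M) ≠ ⊤ :=
  fun h => top_ne_bot (α := Submodule R M) (Submodule.eq_bot_of_le_smul_of_le_jacobson_bot _ _
    Module.Finite.fg_top h.ge (IsLocalRing.maximalIdeal_le_jacobson ⊥))

/-- Depth is positive iff the maximal ideal is not associated. -/
theorem one_le_depth_iff :
    (1 : ℕ∞) ≤ LocCoh.depth R M ↔ maximalIdeal R ∉ associatedPrimes R M := by
  rcases subsingleton_or_nontrivial M with hM | hM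
  · simp only [associatedPrimes.eq_empty_of_subsingleton, Set.mem_empty_iff_false, not_false_eq_true,
      iff_true]
    rw [LocCoh.depth, LocCoh.idealDepth, if_pos]
    · exact le_top
    · exact Subsingleton.elim _ _
  have hne := maximal_smul_top_ne_top (R := R) (M := M)
  constructor
  · intro h hass
    obtain ⟨rs, hrs, hmem, hlen⟩ := exists_length_ge_of_le_idealDepth hne (n := 1) (by exact_mod_cast h)
    match rs, hlen with
    | x :: rs, _ =>
      exact isSMulRegular_iff_forall_ass.mp ((isWeaklyRegular_cons_iff M x rs).mp hrs).1 _ hass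
        (hmem x (by simp))
  · intro h
    obtain ⟨x, hx, hreg⟩ := (exists_isSMulRegular_mem_iff (M := M) (maximalIdeal R)).mpr
      (fun p hp hle => h (by
        rwa [(maximalIdeal.isMaximal R).eq_of_le (IsAssociatedPrime.isPrime hp).ne_top hle]))
    have := length_le_idealDepth (I := maximalIdeal R) (rs := [x])
      (IsWeaklyRegular.cons hreg (IsWeaklyRegular.nil R _))
      (fun r hr => by rw [List.mem_singleton] at hr; exact hr ▸ hx)
    simpa [LocCoh.depth] using this

/-- Depth at least two, tested with any regular element. -/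
theorem two_le_depth_iff {x : R} (hx : x ∈ maximalIdeal R) (hreg : IsSMulRegular M x) :
    (2 : ℕ∞) ≤ LocCoh.depth R M ↔ maximalIdeal R ∉ associatedPrimes R (QuotSMulTop x M) := by
  rcases subsingleton_or_nontrivial M with hM | hM
  · simp only [associatedPrimes.eq_empty_of_subsingleton, Set.mem_empty_iff_false, not_false_eq_true,
      iff_true]
    rw [LocCoh.depth, LocCoh.idealDepth, if_pos]
    · exact le_top
    · exact Subsingleton.elim _ _
  have hne := maximal_smul_top_ne_top (R := R) (M := M)
  constructor
  · intro h hass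
    obtain ⟨rs, hrs, hmem, hlen⟩ := exists_length_ge_of_le_idealDepth hne (n := 2) (by exact_mod_cast h)
    match rs, hlen with
    | a :: b :: rs, _ =>
      obtain ⟨ha, hb⟩ := (isWeaklyRegular_cons_iff M a (b :: rs)).mp hrs
      have hb' := ((isWeaklyRegular_cons_iff _ b rs).mp hb).1
      exact isSMulRegular_iff_forall_ass.mp hb' _
        (ass_quot_swap hreg ha (hmem a (by simp)) hass) (hmem b (by simp))
  · intro h
    obtain ⟨y, hy, hreg'⟩ := (exists_isSMulRegular_mem_iff (M := QuotSMulTop x M) (maximalIdeal R)).mpr
      (fun p hp hle => h (by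
        rwa [(maximalIdeal.isMaximal R).eq_of_le (IsAssociatedPrime.isPrime hp).ne_top hle]))
    have := length_le_idealDepth (I := maximalIdeal R) (rs := [x, y])
      (IsWeaklyRegular.cons hreg (IsWeaklyRegular.cons hreg' (IsWeaklyRegular.nil R _)))
      (fun r hr => by
        rcases List.mem_cons.mp hr with rfl | hr
        · exact hx
        · rw [List.mem_singleton] at hr; exact hr ▸ hy)
    simpa [LocCoh.depth] using this

/-- Depth at least two, without mentioning a particular regular element. -/
theorem two_le_depth_iff' :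
    (2 : ℕ∞) ≤ LocCoh.depth R M ↔ maximalIdeal R ∉ associatedPrimes R M ∧
      ∀ x ∈ maximalIdeal R, IsSMulRegular M x →
        maximalIdeal R ∉ associatedPrimes R (QuotSMulTop x M) := by
  constructor
  · intro h
    exact ⟨one_le_depth_iff.mp (le_trans (by decide) h), fun x hx hreg => (two_le_depth_iff hx hreg).mp h⟩
  · rintro ⟨h, h'⟩
    obtain ⟨x, hx, hreg⟩ := (exists_isSMulRegular_mem_iff (M := M) (maximalIdeal R)).mpr
      (fun p hp hle => h (by
        rwa [(maximalIdeal.isMaximal R).eq_of_le (IsAssociatedPrime.isPrime hp).ne_top hle]))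
    exact (two_le_depth_iff hx hreg).mpr (h' x hx hreg)

end Local

section Prime

variable [IsNoetherianRing R] (p : Ideal R) [p.IsPrime]

theorem ass_localized_iff :
    maximalIdeal (Localization.AtPrime p) ∈
        associatedPrimes (Localization.AtPrime p) (LocalizedModule p.primeCompl M) ↔
      p ∈ associatedPrimes R M := by
  refine ⟨fun h => ?_, fun h => Module.associatedPrimes.mem_associatedPrimes_atPrime_of_mem_associatedPrimes h⟩
  have h2 : maximalIdeal (Localization.AtPrime p) ∈
      Ideal.comap (algebraMap R (Localization.AtPrime p)) ⁻¹' (associatedPrimes R M) := by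
    rw [Module.associatedPrimes.preimage_comap_associatedPrimes_eq_associatedPrimes_of_isLocalizedModule
      p.primeCompl (Localization.AtPrime p) (LocalizedModule.mkLinearMap p.primeCompl M)]
    exact h
  simpa [Localization.AtPrime.under_maximalIdeal] using h2

theorem isSMulRegular_localized {x : R} (hx : IsSMulRegular M x) :
    IsSMulRegular (LocalizedModule p.primeCompl M) (algebraMap R (Localization.AtPrime p) x) := by
  rw [isSMulRegular_iff_right_eq_zero_of_smul]
  intro m hm
  induction m using LocalizedModule.induction_on with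
  | h m s =>
    rw [algebraMap_smul, LocalizedModule.smul'_mk, ← LocalizedModule.zero_mk s, LocalizedModule.mk_eq] at hm
    obtain ⟨t, ht⟩ := hm
    rw [← LocalizedModule.zero_mk s, LocalizedModule.mk_eq]
    refine ⟨t, ?_⟩
    simp only [smul_zero, Submonoid.smul_def] at ht ⊢
    exact (isSMulRegular_iff_right_eq_zero_of_smul.mp hx) _ (by
      rw [smul_comm x, smul_comm x]; exact ht)

theorem mem_maximalIdeal_iff {a : R} :
    algebraMap R (Localization.AtPrime p) a ∈ maximalIdeal (Localization.AtPrime p) ↔ a ∈ p := by
  rw [← Ideal.mem_comap]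
  exact iff_of_eq (congrArg (a ∈ ·) Localization.AtPrime.under_maximalIdeal)

/-- Associated primes of `M / xM` commute with localization. -/
theorem ass_localized_quot_iff {x : R} (hxp : x ∈ p) :
    maximalIdeal (Localization.AtPrime p) ∈ associatedPrimes (Localization.AtPrime p)
        (QuotSMulTop (algebraMap R (Localization.AtPrime p) x) (LocalizedModule p.primeCompl M)) ↔
      p ∈ associatedPrimes R (QuotSMulTop x M) := by
  have hmk : ∀ (m : M) (s : p.primeCompl),
      (∃ w, algebraMap R (Localization.AtPrime p) x • w = LocalizedModule.mk m s) ↔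
        ∃ t : p.primeCompl, ∃ w : M, x • w = (t : R) • m := by
    intro m s
    constructor
    · rintro ⟨w, hw⟩
      induction w using LocalizedModule.induction_on with
      | h w r =>
        rw [algebraMap_smul, LocalizedModule.smul'_mk, LocalizedModule.mk_eq] at hw
        obtain ⟨u, hu⟩ := hw
        simp only [Submonoid.smul_def] at hu
        refine ⟨u * r, ((u : R) * s) • w, ?_⟩
        rw [smul_comm, Submonoid.coe_mul, mul_smul, mul_smul, hu]
    · rintro ⟨t, w, hw⟩
      refine ⟨LocalizedModule.mk w (t * s), ?_⟩
      rw [algebraMap_smul, LocalizedModule.smul'_mk, hw, LocalizedModule.mk_eq]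
      refine ⟨1, ?_⟩
      simp only [one_smul, Submonoid.smul_def, Submonoid.coe_mul, mul_smul]
      rw [smul_comm]
  constructor
  · intro h
    obtain ⟨-, zb, hz⟩ := mem_ass_iff.mp h
    obtain ⟨zl, rfl⟩ := Submodule.Quotient.mk_surjective _ zb
    induction zl using LocalizedModule.induction_on with
    | h z s =>
      have key : ∀ a : R, a ∈ p ↔ ∃ t : p.primeCompl, ∃ w : M, x • w = (t : R) • a • z := by
        intro a
        rw [← mem_maximalIdeal_iff p, hz, ← Submodule.Quotient.mk_smul, mem_pointwise_smul_top_iff,
          algebraMap_smul, LocalizedModule.smul'_mk, hmk]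
      obtain ⟨gs, hgs⟩ := IsNoetherian.noetherian p
      have : ∀ a ∈ gs, ∃ t : p.primeCompl, ∃ w : M, x • w = (t : R) • a • z := fun a ha =>
        (key a).mp (by rw [← hgs]; exact Submodule.subset_span ha)
      choose! t w hw using this
      let T : R := ∏ a ∈ gs, (t a : R)
      have hT : T ∈ p.primeCompl := prod_mem fun a _ => (t a).2
      refine mem_ass_iff.mpr ⟨inferInstance, Submodule.Quotient.mk (T • z), fun a => ?_⟩
      constructor
      · intro ha
        have hle : p ≤ ((⊥ : Submodule R (QuotSMulTop x M)).colon {Submodule.Quotient.mk (T • z)}) := by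
          rw [← hgs, Ideal.span_le]
          intro b hb
          obtain ⟨T', hT'⟩ := Finset.dvd_prod_of_mem (fun a => (t a : R)) (Finset.mem_coe.mp hb)
          rw [SetLike.mem_coe, mem_colon_singleton, Submodule.mem_bot, ← Submodule.Quotient.mk_smul,
            mem_pointwise_smul_top_iff]
          refine ⟨T' • w b, ?_⟩
          rw [smul_comm x T', hw b hb, smul_comm b T z]
          show T' • (t b : R) • b • z = T • b • z
          rw [show T = (t b : R) * T' from hT', mul_comm, mul_smul]
        simpa [mem_colon_singleton] using hle ha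
      · intro ha
        rw [← Submodule.Quotient.mk_smul, mem_pointwise_smul_top_iff] at ha
        obtain ⟨u, hu⟩ := ha
        exact (key a).mpr ⟨⟨T, hT⟩, u, by rw [hu, smul_comm a T z]⟩
  · intro h
    obtain ⟨-, zb, hz⟩ := mem_ass_iff.mp h
    obtain ⟨z, rfl⟩ := Submodule.Quotient.mk_surjective _ zb
    refine mem_ass_iff.mpr ⟨inferInstance, Submodule.Quotient.mk (LocalizedModule.mk z 1), fun a => ?_⟩
    obtain ⟨⟨b, s⟩, hbs⟩ := IsLocalization.surj p.primeCompl a
    have hu := IsLocalization.map_units (Localization.AtPrime p) s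
    have hiff : a ∈ maximalIdeal (Localization.AtPrime p) ↔ b ∈ p := by
      rw [← mem_maximalIdeal_iff p, ← hbs]
      exact ⟨fun h => Ideal.mul_mem_right _ _ h,
        fun h => ((maximalIdeal.isMaximal _).isPrime.mem_or_mem h).resolve_right fun h' =>
          (maximalIdeal.isMaximal _).ne_top (Ideal.eq_top_of_isUnit_mem _ h' hu)⟩
    rw [hiff, hz b, ← IsUnit.smul_eq_zero (x := (a • Submodule.Quotient.mk (LocalizedModule.mk z 1) :
        QuotSMulTop (algebraMap R (Localization.AtPrime p) x) (LocalizedModule p.primeCompl M))) hu,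
      smul_smul, mul_comm, hbs, ← Submodule.Quotient.mk_smul, ← Submodule.Quotient.mk_smul,
      mem_pointwise_smul_top_iff, mem_pointwise_smul_top_iff, algebraMap_smul,
      LocalizedModule.smul'_mk, hmk]
    constructor
    · rintro ⟨w, hw⟩
      exact ⟨1, w, by simpa using hw⟩
    · rintro ⟨t, w, hw⟩
      have h1 : (Submodule.Quotient.mk ((t : R) • b • z) : QuotSMulTop x M) = 0 :=
        mem_pointwise_smul_top_iff.mpr ⟨w, hw⟩
      rw [smul_smul, Submodule.Quotient.mk_smul, ← hz] at h1
      exact mem_pointwise_smul_top_iff.mp (by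
        rw [Submodule.Quotient.mk_smul, ← hz]
        exact (((inferInstance : p.IsPrime).mem_or_mem h1).resolve_left t.2))

/-- Depth of a localization is at least one iff the prime is not associated. -/
theorem one_le_depth_atPrime_iff [Module.Finite R M] :
    (1 : ℕ∞) ≤ LocCoh.depth (Localization.AtPrime p) (LocalizedModule p.primeCompl M) ↔
      p ∉ associatedPrimes R M := by
  rw [one_le_depth_iff, ass_localized_iff]

/-- Depth of a localization is at least two, tested with a regular element of the prime. -/
theorem two_le_depth_atPrime_iff [Module.Finite R M] {x : R} (hxp : x ∈ p) (hreg : IsSMulRegular M x) :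
    (2 : ℕ∞) ≤ LocCoh.depth (Localization.AtPrime p) (LocalizedModule p.primeCompl M) ↔
      p ∉ associatedPrimes R (QuotSMulTop x M) := by
  rw [two_le_depth_iff ((mem_maximalIdeal_iff p).mpr hxp) (isSMulRegular_localized p hreg),
    ass_localized_quot_iff p hxp]

end Prime

end Groth.Agent.Alg6
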