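import Groth.Prelude.Def_CAlg
import Mathlib.RingTheory.Localization.LocalizationLocalization
import Mathlib.RingTheory.Localization.BaseChange
import Mathlib.RingTheory.Regular.RegularSequence
import Mathlib.RingTheory.Spectrum.Prime.RingHom
import Mathlib.RingTheory.Spectrum.Prime.Topology
import Mathlib.RingTheory.KrullDimension.Module
import Mathlib.RingTheory.Support

/-!
Depth and support dimension under surjective change of rings, and localizations of localizations.
-/

universe u v w

namespace Groth.Agent.Alg6

open IsLocalRing RingTheory.Sequence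

section Transfer

variable {R : Type u} {S : Type v} [CommRing R] [CommRing S] {M : Type w} {N : Type*}
  [AddCommGroup M] [AddCommGroup N] [Module R M] [Module S N]

theorem supportDim_eq_of_semilinear (σ : R →+* S) (hσ : Function.Surjective σ) (e : M ≃+ N)
    (he : ∀ (r : R) (x : M), e (r • x) = σ r • e x) :
    Module.supportDim R M = Module.supportDim S N := by
  have hmem : ∀ Q : PrimeSpectrum S,
      Q ∈ Module.support S N ↔ PrimeSpectrum.comap σ Q ∈ Module.support R M := by
    intro Q
    rw [Module.mem_support_iff', Module.mem_support_iff']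
    constructor
    · rintro ⟨n, hn⟩
      refine ⟨e.symm n, fun r hr h0 => hn (σ r) hr ?_⟩
      simpa [he] using congrArg e h0
    · rintro ⟨m, hm⟩
      refine ⟨e m, fun s hs h0 => ?_⟩
      obtain ⟨r, rfl⟩ := hσ s
      exact hm r hs (e.injective (by rw [he, map_zero]; exact h0))
  have hrange : ∀ P ∈ Module.support R M, P ∈ Set.range (PrimeSpectrum.comap σ) := by
    intro P hP
    rw [range_comap_of_surjective S σ hσ, PrimeSpectrum.mem_zeroLocus]
    intro r hr
    obtain ⟨m, hm⟩ := Module.mem_support_iff'.mp hP
    by_contra h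
    refine hm r h (e.injective ?_)
    rw [he, map_zero, (RingHom.mem_ker.mp hr : σ r = 0), zero_smul]
  let g : Module.support S N → Module.support R M := fun Q => ⟨PrimeSpectrum.comap σ Q.1, (hmem Q.1).mp Q.2⟩
  have hle : ∀ Q Q', g Q ≤ g Q' ↔ Q ≤ Q' := by
    intro Q Q'
    show Q.1.asIdeal.comap σ ≤ Q'.1.asIdeal.comap σ ↔ Q.1.asIdeal ≤ Q'.1.asIdeal
    exact Ideal.comap_le_comap_iff_of_surjective σ hσ _ _
  refine (Order.krullDim_eq_of_orderIso
    (OrderIso.ofSurjective (OrderEmbedding.ofMapLEIff g hle) ?_)).symm
  rintro ⟨P, hP⟩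
  obtain ⟨Q, rfl⟩ := hrange P hP
  exact ⟨⟨Q, (hmem Q).mpr hP⟩, rfl⟩

theorem idealDepth_eq_of_semilinear (σ : R →+* S) (hσ : Function.Surjective σ) (e : M ≃+ N)
    (he : ∀ (r : R) (x : M), e (r • x) = σ r • e x) (I : Ideal R) :
    LocCoh.idealDepth I M = LocCoh.idealDepth (I.map σ) N := by
  haveI : RingHomSurjective σ := ⟨hσ⟩
  let l : M →ₛₗ[σ] N := { toFun := e, map_add' := e.map_add, map_smul' := he }
  have hmap : Submodule.map l (I • ⊤) = I.map σ • (⊤ : Submodule S N) := by
    refine le_antisymm ?_ (Submodule.smul_le.mpr fun t ht n _ => ?_)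
    · refine Submodule.map_le_iff_le_comap.mpr (Submodule.smul_le.mpr fun r hr m _ => ?_)
      rw [Submodule.mem_comap, map_smulₛₗ]
      exact Submodule.smul_mem_smul (Ideal.mem_map_of_mem σ hr) Submodule.mem_top
    · obtain ⟨r, hr, rfl⟩ := (Ideal.mem_map_iff_of_surjective σ hσ).mp ht
      obtain ⟨m, rfl⟩ := e.surjective n
      exact ⟨r • m, Submodule.smul_mem_smul hr Submodule.mem_top, l.map_smulₛₗ r m⟩
  have htop : I • (⊤ : Submodule R M) = ⊤ ↔ I.map σ • (⊤ : Submodule S N) = ⊤ := by
    rw [← hmap]
    constructor
    · intro h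
      rw [h, Submodule.map_top, LinearMap.range_eq_top]
      exact e.surjective
    · intro h
      refine eq_top_iff.mpr fun x _ => ?_
      have hx : l x ∈ Submodule.map l (I • (⊤ : Submodule R M)) := by rw [h]; trivial
      obtain ⟨y, hy, hyx⟩ := hx
      rwa [e.injective hyx] at hy
  have hreg : ∀ rs : List R, IsWeaklyRegular M rs ↔ IsWeaklyRegular N (rs.map σ) := fun rs =>
    e.isWeaklyRegular_congr (List.forall₂_map_right_iff.mpr (List.forall₂_same.mpr fun r _ x => he r x))
  unfold LocCoh.idealDepth
  by_cases h : I • (⊤ : Submodule R M) = ⊤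
  · rw [if_pos h, if_pos (htop.mp h)]
  rw [if_neg h, if_neg (fun h' => h (htop.mpr h'))]
  refine le_antisymm (iSup₂_le fun rs hrs => ?_) (iSup₂_le fun ss hss => ?_)
  · refine le_iSup₂_of_le (rs.map σ) ⟨(hreg rs).mp hrs.1, fun s hs => ?_⟩ (by rw [List.length_map])
    obtain ⟨r, hr, rfl⟩ := List.mem_map.mp hs
    exact Ideal.mem_map_of_mem σ (hrs.2 r hr)
  · have hmem : ∀ s ∈ ss, ∃ r ∈ I, σ r = s := fun s hs =>
      (Ideal.mem_map_iff_of_surjective σ hσ).mp (hss.2 s hs)
    choose! g hgI hg using hmem
    have hmapg : (ss.map g).map σ = ss := by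
      rw [List.map_map]
      exact List.map_id'' (fun s => rfl) ss |>.symm.trans (List.map_congr_left fun s hs => (hg s hs).symm) |>.symm
    refine le_iSup₂_of_le (ss.map g) ⟨(hreg _).mpr (by rw [hmapg]; exact hss.1), fun r hr => ?_⟩
      (by rw [List.length_map])
    obtain ⟨s, hs, rfl⟩ := List.mem_map.mp hr
    exact hgI s hs

theorem depth_eq_of_semilinear [IsLocalRing R] [IsLocalRing S] (σ : R →+* S) (hσ : Function.Surjective σ)
    (e : M ≃+ N) (he : ∀ (r : R) (x : M), e (r • x) = σ r • e x) :
    LocCoh.depth R M = LocCoh.depth S N := by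
  unfold LocCoh.depth
  rw [idealDepth_eq_of_semilinear σ hσ e he]
  congr 1
  rcases Ideal.map_eq_top_or_isMaximal_of_surjective σ hσ (maximalIdeal.isMaximal R) with h | h
  · exfalso
    have hker : maximalIdeal R ⊔ RingHom.ker σ = ⊤ := by
      rw [RingHom.ker_eq_comap_bot, ← Ideal.comap_map_of_surjective σ hσ, h, Ideal.comap_top]
    have hne : RingHom.ker σ ≤ maximalIdeal R := le_maximalIdeal (RingHom.ker_ne_top σ)
    rw [sup_eq_left.mpr hne] at hker
    exact (maximalIdeal.isMaximal R).ne_top hker
  · exact IsLocalRing.eq_maximalIdeal h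

end Transfer

section LocalizedAtPrime

variable {A : Type u} [CommRing A] (q : Ideal A) [q.IsPrime] {M : Type v} [AddCommGroup M] [Module A M]
  (C : Type*) [CommRing C] [Algebra A C] [IsLocalization.AtPrime C q]
  {N : Type*} [AddCommGroup N] [Module A N] [Module C N] [IsScalarTower A C N]
  (f : M →ₗ[A] N) [IsLocalizedModule q.primeCompl f]

include f

/-- The canonical comparison of a localization with any other model is semilinear. -/
theorem iso_semilinear (z : Localization.AtPrime q) (x : LocalizedModule q.primeCompl M) :
    IsLocalizedModule.iso q.primeCompl f (z • x) =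
      (IsLocalization.algEquiv q.primeCompl (Localization.AtPrime q) C z) •
        IsLocalizedModule.iso q.primeCompl f x := by
  obtain ⟨⟨a, s⟩, hzs⟩ := IsLocalization.surj q.primeCompl z
  have hu : IsUnit (algebraMap A C (s : A)) := IsLocalization.map_units C s
  refine hu.smul_left_cancel.mp ?_
  have hzs' : z * algebraMap A (Localization.AtPrime q) (s : A) = algebraMap A _ a := hzs
  have h1 : algebraMap A C (s : A) * IsLocalization.algEquiv q.primeCompl (Localization.AtPrime q) C z =
      algebraMap A C a := by
    have := congrArg (IsLocalization.algEquiv q.primeCompl (Localization.AtPrime q) C) hzs'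
    simp only [map_mul, AlgEquiv.commutes] at this
    rw [mul_comm, this]
  have h2 : (s : A) • z • x = a • x := by
    rw [← algebraMap_smul (Localization.AtPrime q) (s : A) (z • x), smul_smul, mul_comm, hzs',
      algebraMap_smul]
  rw [smul_smul, h1, algebraMap_smul, algebraMap_smul, ← map_smul, h2, map_smul]

theorem depth_localized_eq [IsLocalRing C] :
    LocCoh.depth C N = LocCoh.depth (Localization.AtPrime q) (LocalizedModule q.primeCompl M) :=
  (depth_eq_of_semilinear (IsLocalization.algEquiv q.primeCompl (Localization.AtPrime q) C).toRingEquiv.toRingHom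
    (IsLocalization.algEquiv q.primeCompl (Localization.AtPrime q) C).surjective (IsLocalizedModule.iso q.primeCompl f).toAddEquiv
    (iso_semilinear q C f)).symm

theorem supportDim_localized_eq :
    Module.supportDim C N =
      Module.supportDim (Localization.AtPrime q) (LocalizedModule q.primeCompl M) :=
  (supportDim_eq_of_semilinear (IsLocalization.algEquiv q.primeCompl (Localization.AtPrime q) C).toRingEquiv.toRingHom
    (IsLocalization.algEquiv q.primeCompl (Localization.AtPrime q) C).surjective (IsLocalizedModule.iso q.primeCompl f).toAddEquiv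
    (iso_semilinear q C f)).symm

end LocalizedAtPrime

section LocLoc

variable {A : Type u} [CommRing A] (S : Submonoid A) (M : Type v) [AddCommGroup M] [Module A M]
  (Q : Ideal (Localization S)) [Q.IsPrime]

/-- The composite map `M → S⁻¹M → (S⁻¹M)_Q`. -/
noncomputable def locLocMap : M →ₗ[A] LocalizedModule Q.primeCompl (LocalizedModule S M) :=
  ((LocalizedModule.mkLinearMap Q.primeCompl (LocalizedModule S M)).restrictScalars A).comp
    (LocalizedModule.mkLinearMap S M)

instance isLocalizedModule_locLocMap :
    IsLocalizedModule (Q.comap (algebraMap A (Localization S))).primeCompl (locLocMap S M Q) := by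
  rw [isLocalizedModule_iff_isBaseChange _ (Localization.AtPrime Q)]
  exact (IsLocalizedModule.isBaseChange S (Localization S) (LocalizedModule.mkLinearMap S M)).comp
    (IsLocalizedModule.isBaseChange Q.primeCompl (Localization.AtPrime Q)
      (LocalizedModule.mkLinearMap Q.primeCompl (LocalizedModule S M)))

theorem depth_locLoc :
    LocCoh.depth (Localization.AtPrime Q) (LocalizedModule Q.primeCompl (LocalizedModule S M)) =
      LocCoh.depth (Localization.AtPrime (Q.comap (algebraMap A (Localization S))))
        (LocalizedModule (Q.comap (algebraMap A (Localization S))).primeCompl M) :=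
  depth_localized_eq _ _ (locLocMap S M Q)

theorem supportDim_locLoc :
    Module.supportDim (Localization.AtPrime Q) (LocalizedModule Q.primeCompl (LocalizedModule S M)) =
      Module.supportDim (Localization.AtPrime (Q.comap (algebraMap A (Localization S))))
        (LocalizedModule (Q.comap (algebraMap A (Localization S))).primeCompl M) :=
  supportDim_localized_eq _ _ (locLocMap S M Q)

/-- Serre's condition on a localization is tested at the primes disjoint from the submonoid. -/
theorem hasSk_localization_iff (k : ℕ) :
    LocCoh.HasSk k (Localization S) (LocalizedModule S M) ↔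
      ∀ (q : Ideal A) [q.IsPrime], Disjoint (S : Set A) (q : Set A) →
        min (k : WithBot ℕ∞)
            (Module.supportDim (Localization.AtPrime q) (LocalizedModule q.primeCompl M)) ≤
          ((LocCoh.depth (Localization.AtPrime q) (LocalizedModule q.primeCompl M) : ℕ∞) : WithBot ℕ∞) := by
  constructor
  · intro h q _ hq
    haveI := IsLocalization.isPrime_of_isPrime_disjoint S (Localization S) q ‹_› hq
    have h2 := h (Ideal.map (algebraMap A (Localization S)) q)
    rw [depth_locLoc, supportDim_locLoc] at h2
    have key : ∀ (q' : Ideal A) [q'.IsPrime], q' = q →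
        min (k : WithBot ℕ∞)
            (Module.supportDim (Localization.AtPrime q') (LocalizedModule q'.primeCompl M)) ≤
          ((LocCoh.depth (Localization.AtPrime q') (LocalizedModule q'.primeCompl M) : ℕ∞) : WithBot ℕ∞) →
        min (k : WithBot ℕ∞)
            (Module.supportDim (Localization.AtPrime q) (LocalizedModule q.primeCompl M)) ≤
          ((LocCoh.depth (Localization.AtPrime q) (LocalizedModule q.primeCompl M) : ℕ∞) : WithBot ℕ∞) := by
      intro q' _ e h
      subst e
      exact h
    exact key _ (IsLocalization.under_map_of_isPrime_disjoint S (Localization S) ‹_› hq) h2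
  · intro h Q _
    rw [depth_locLoc, supportDim_locLoc]
    exact h _ ((IsLocalization.disjoint_under_iff S (Localization S) Q).mpr (Ideal.IsPrime.ne_top ‹_›))

end LocLoc

end Groth.Agent.Alg6
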