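import Groth.Prelude.Def_CAlg
import Mathlib.RingTheory.Localization.LocalizationLocalization
import Mathlib.RingTheory.RegularLocalRing.Defs
import Mathlib.RingTheory.Ideal.Height

/-!
The condition (R_k) on localizations.
-/

universe u

namespace Groth.Agent.Alg6

variable {A : Type u} [CommRing A] (S : Submonoid A)

/-- The condition (R_k) on a localization is tested at the primes disjoint from the submonoid. -/
theorem hasRk_localization_iff (k : ℕ) :
    LocCoh.HasRk k (Localization S) ↔
      ∀ (q : Ideal A) [q.IsPrime], Disjoint (S : Set A) (q : Set A) → q.height ≤ k →
        IsRegularLocalRing (Localization.AtPrime q) := by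
  constructor
  · intro h q _ hq hk
    haveI := IsLocalization.isPrime_of_isPrime_disjoint S (Localization S) q ‹_› hq
    have hcomap : (Ideal.map (algebraMap A (Localization S)) q).comap (algebraMap A (Localization S)) = q :=
      IsLocalization.under_map_of_isPrime_disjoint S (Localization S) ‹_› hq
    have h2 := h (Ideal.map (algebraMap A (Localization S)) q) (by
      rw [← IsLocalization.height_under S]
      exact le_of_eq_of_le (congrArg Ideal.height hcomap) hk)
    have key : ∀ (q' : Ideal A) [q'.IsPrime], q' = q → IsRegularLocalRing (Localization.AtPrime q') →
        IsRegularLocalRing (Localization.AtPrime q) := by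
      intro q' _ e h
      subst e
      exact h
    exact key _ hcomap (IsRegularLocalRing.of_ringEquiv
      (IsLocalization.localizationLocalizationAtPrimeIsoLocalization S
        (Ideal.map (algebraMap A (Localization S)) q)).symm.toRingEquiv)
  · intro h Q _ hk
    haveI := h (Q.comap (algebraMap A (Localization S)))
      ((IsLocalization.disjoint_under_iff S (Localization S) Q).mpr (Ideal.IsPrime.ne_top ‹_›))
      (by rw [← Ideal.under_def, IsLocalization.height_under S]; exact hk)
    exact IsRegularLocalRing.of_ringEquiv
      (IsLocalization.localizationLocalizationAtPrimeIsoLocalization S Q).toRingEquiv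

/-- Primes disjoint from the complement of a prime are the primes contained in it. -/
theorem disjoint_primeCompl_iff (p q : Ideal A) [p.IsPrime] :
    Disjoint (p.primeCompl : Set A) (q : Set A) ↔ q ≤ p := by
  rw [Set.disjoint_right]
  exact ⟨fun h a ha => by_contra fun ha' => h ha ha', fun h a ha ha' => ha' (h ha)⟩

end Groth.Agent.Alg6
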