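import Groth.Prelude.Def_EGA4c
import Groth.Agent.Alg6.AssDepth
import Mathlib.AlgebraicGeometry.StructureSheaf

/-!
Sections of a tilde sheaf outside a closed subset, and the purity criterion.
-/

universe u

namespace Groth.Agent.Alg6

open AlgebraicGeometry

variable (A : Type u) [CommRing A] (J : Ideal A) (M : Type u) [AddCommGroup M] [Module A M]

theorem mem_openCompl_iff {q : PrimeSpectrum A} : q ∈ EGA4.openCompl A J ↔ ¬ J ≤ q.asIdeal :=
  Iff.rfl

theorem const_one_bijective :
    Function.Bijective (fun m : M => StructureSheaf.toOpenₗ A M (⊤ : TopologicalSpace.Opens (PrimeSpectrum.Top A)) m) :=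
  StructureSheaf.toOpenₗ_top_bijective

/-- Injectivity of restriction, elementwise. -/
theorem restrCompl_injective_iff :
    Function.Injective (EGA4.restrCompl A J M) ↔
      ∀ m : M, (∀ q : PrimeSpectrum A, ¬ J ≤ q.asIdeal → ∃ t ∉ q.asIdeal, t • m = 0) → m = 0 := by
  have hz : ∀ (q : PrimeSpectrum A) (m : M),
      (LocalizedModule.mk m 1 : LocalizedModule q.asIdeal.primeCompl M) = 0 ↔
        ∃ t ∉ q.asIdeal, t • m = 0 := by
    intro q m
    rw [← LocalizedModule.zero_mk (1 : q.asIdeal.primeCompl), LocalizedModule.mk_eq]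
    constructor
    · rintro ⟨t, ht⟩
      exact ⟨t, t.2, by simpa [Submonoid.smul_def] using ht⟩
    · rintro ⟨t, ht, h⟩
      exact ⟨⟨t, ht⟩, by simpa [Submonoid.smul_def] using h⟩
  constructor
  · intro h m hm
    have : StructureSheaf.toOpenₗ A M (⊤ : TopologicalSpace.Opens (PrimeSpectrum.Top A)) m =
        StructureSheaf.toOpenₗ A M (⊤ : TopologicalSpace.Opens (PrimeSpectrum.Top A)) 0 := by
      apply h
      refine Subtype.ext (funext fun q => ?_)
      show (LocalizedModule.mk m 1 : LocalizedModule q.1.asIdeal.primeCompl M) = LocalizedModule.mk 0 1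
      rw [LocalizedModule.zero_mk, hz]
      exact hm q.1 q.2
    exact (const_one_bijective A M).1 this
  · intro h s t hst
    obtain ⟨m, rfl⟩ := (const_one_bijective A M).2 s
    obtain ⟨n, rfl⟩ := (const_one_bijective A M).2 t
    have : m - n = 0 := h _ fun q hq => by
      have e : (LocalizedModule.mk m 1 : LocalizedModule q.asIdeal.primeCompl M) = LocalizedModule.mk n 1 :=
        congrFun (congrArg Subtype.val hst) ⟨q, hq⟩
      obtain ⟨t, ht⟩ := LocalizedModule.mk_eq.mp e
      refine ⟨t, t.2, ?_⟩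
      rw [smul_sub, sub_eq_zero]
      simpa [Submonoid.smul_def] using ht
    rw [sub_eq_zero.mp this]

/-- Surjectivity of restriction, elementwise. -/
theorem restrCompl_surjective_iff :
    Function.Surjective (EGA4.restrCompl A J M) ↔
      ∀ s : (q : EGA4.openCompl A J) → LocalizedModule (PrimeSpectrum.asIdeal (R := A) q.1).primeCompl M,
        (∀ q : EGA4.openCompl A J, ∃ V : TopologicalSpace.Opens (PrimeSpectrum A), q.1 ∈ V ∧
          ∃ (hV : V ≤ EGA4.openCompl A J) (r : M) (g : A), ∀ q' : V, ∃ hg : g ∉ (q'.1 : PrimeSpectrum A).asIdeal,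
            s ⟨q'.1, hV q'.2⟩ = LocalizedModule.mk r ⟨g, hg⟩) →
        ∃ m : M, ∀ q, s q = LocalizedModule.mk m 1 := by
  constructor
  · intro h s hs
    have hpred : (StructureSheaf.isLocallyFraction A M).pred s := by
      intro q
      obtain ⟨V, hqV, hV, r, g, hg⟩ := hs q
      exact ⟨V, hqV, CategoryTheory.homOfLE hV, r, g, hg⟩
    obtain ⟨σ, hσ⟩ := h ⟨s, hpred⟩
    obtain ⟨m, rfl⟩ := (const_one_bijective A M).2 σ
    exact ⟨m, fun q => (congrFun (congrArg Subtype.val hσ) q).symm⟩
  · intro h σ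
    obtain ⟨m, hm⟩ := h σ.1 (fun q => by
      obtain ⟨V, hqV, i, r, g, hg⟩ := σ.2 q
      exact ⟨V, hqV, i.le, r, g, hg⟩)
    exact ⟨StructureSheaf.toOpenₗ A M (⊤ : TopologicalSpace.Opens (PrimeSpectrum.Top A)) m,
      Subtype.ext (funext fun q => (hm q).symm)⟩

variable {A} {M}

/-- `M` is pure along `Z` iff no associated prime of `M` lies in `Z`. -/
theorem isPureAlong_iff_ass [IsNoetherianRing A] {Z : Set (PrimeSpectrum A)}
    (hZ : StableUnderSpecialization Z) :
    EGA4.IsPureAlong Z M ↔ ∀ p : PrimeSpectrum A, p.asIdeal ∈ associatedPrimes A M → p ∉ Z := by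
  constructor
  · intro h p hp hpZ
    obtain ⟨hpp, z, hz⟩ := mem_ass_iff.mp hp
    have hV : PrimeSpectrum.zeroLocus (p.asIdeal : Set A) ⊆ Z := fun q hq =>
      hZ ((PrimeSpectrum.le_iff_specializes p q).mp hq) hpZ
    have := (restrCompl_injective_iff A p.asIdeal M).mp (h _ hV) z fun q hq => by
      obtain ⟨a, hap, haq⟩ := SetLike.not_le_iff_exists.mp hq
      exact ⟨a, haq, (hz a).mp hap⟩
    exact hpp.ne_top (Ideal.eq_top_of_isUnit_mem _ ((hz 1).mpr (by simp [this])) isUnit_one)
  · intro h J hJ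
    rw [restrCompl_injective_iff]
    intro m hm
    by_contra hne
    obtain ⟨P, hP, hle⟩ := exists_ass_ge (R := A) hne
    have hPp := IsAssociatedPrime.isPrime (AssociatedPrimes.mem_iff.mp hP)
    by_cases hJP : J ≤ P
    · exact h ⟨P, hPp⟩ hP (hJ hJP)
    · obtain ⟨t, ht, htm⟩ := hm ⟨P, hPp⟩ hJP
      exact ht (hle t htm)

end Groth.Agent.Alg6
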