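import Groth.Agent.Alg6.Sections

/-!
The criterion for being closed along a specialization-stable set by depth at least two.
-/

universe u

namespace Groth.Agent.Alg6

open IsLocalRing

variable {A : Type u} [CommRing A] [IsNoetherianRing A] {M : Type u} [AddCommGroup M] [Module A M]
  [Module.Finite A M] {Z : Set (PrimeSpectrum A)}

theorem isClosedAlong_of_two_le_depth (hZ : StableUnderSpecialization Z)
    (h : ∀ p : PrimeSpectrum A, p ∈ Z →
      (2 : ℕ∞) ≤ LocCoh.depth (Localization.AtPrime p.asIdeal) (LocalizedModule p.asIdeal.primeCompl M)) :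
    EGA4.IsClosedAlong Z M := by
  intro J hJ
  have hass : ∀ p : PrimeSpectrum A, p.asIdeal ∈ associatedPrimes A M → p ∉ Z := fun p hp hpZ =>
    (one_le_depth_atPrime_iff p.asIdeal).mp (le_trans (by decide) (h p hpZ)) hp
  refine ⟨((isPureAlong_iff_ass hZ).mpr hass) J hJ, ?_⟩
  rw [restrCompl_surjective_iff]
  intro s hs
  obtain ⟨x, hxJ, hx⟩ := (exists_isSMulRegular_mem_iff (M := M) J).mpr fun P hP hle =>
    hass ⟨P, IsAssociatedPrime.isPrime (AssociatedPrimes.mem_iff.mp hP)⟩ hP (hJ hle)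
  -- on `D(x)` the section is a single fraction
  have hxU : PrimeSpectrum.basicOpen x ≤ EGA4.openCompl A J := fun q hq hle => hq (hle hxJ)
  have hpred : (AlgebraicGeometry.StructureSheaf.isLocallyFraction A M).pred
      (fun q : (PrimeSpectrum.basicOpen x : TopologicalSpace.Opens (AlgebraicGeometry.PrimeSpectrum.Top A)) =>
        s ⟨q.1, hxU q.2⟩) := by
    intro q
    obtain ⟨V, hqV, hV, r, g, hg⟩ := hs ⟨q.1, hxU q.2⟩
    exact ⟨V ⊓ PrimeSpectrum.basicOpen x, ⟨hqV, q.2⟩, CategoryTheory.homOfLE inf_le_right, r, g,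
      fun q' => hg ⟨q'.1, q'.2.1⟩⟩
  obtain ⟨⟨m, ⟨_, n, rfl⟩⟩, hm⟩ := IsLocalizedModule.surj (Submonoid.powers x)
    (AlgebraicGeometry.StructureSheaf.toOpenₗ A M (PrimeSpectrum.basicOpen x))
    (⟨_, hpred⟩ : (AlgebraicGeometry.structureSheafInType A M).obj.obj (Opposite.op (PrimeSpectrum.basicOpen x)))
  have hmD : ∀ (q : PrimeSpectrum A) (hq : q ∈ PrimeSpectrum.basicOpen x),
      (x ^ n) • s ⟨q, hxU hq⟩ = LocalizedModule.mk m 1 := fun q hq =>
    congrFun (congrArg Subtype.val hm) ⟨q, hq⟩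
  have hreg : ∀ k : ℕ, IsSMulRegular M (x ^ k) := fun k => hx.pow k
  -- at every point the difference is killed off the prime
  have key : ∀ (q : PrimeSpectrum A) (hq : q ∈ EGA4.openCompl A J),
      ∃ (r : M) (g : A) (hg : g ∉ q.asIdeal),
        s ⟨q, hq⟩ = LocalizedModule.mk r ⟨g, hg⟩ ∧ ∃ t ∉ q.asIdeal, t • ((x ^ n) • r - g • m) = 0 := by
    intro q hq
    obtain ⟨V, hqV, hV, r, g, hg⟩ := hs ⟨q, hq⟩
    obtain ⟨hgq, hsq⟩ := hg ⟨q, hqV⟩
    refine ⟨r, g, hgq, hsq, ?_⟩
    by_contra hne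
    push Not at hne
    have he : LocalizedModule.mk ((x ^ n) • r - g • m) (1 : q.asIdeal.primeCompl) ≠ 0 := by
      intro h0
      rw [← LocalizedModule.zero_mk (1 : q.asIdeal.primeCompl), LocalizedModule.mk_eq] at h0
      obtain ⟨t, ht⟩ := h0
      exact hne t t.2 (by simpa [Submonoid.smul_def] using ht)
    obtain ⟨P', hP', hle⟩ := exists_ass_ge (R := Localization.AtPrime q.asIdeal) he
    have hP : Ideal.comap (algebraMap A (Localization.AtPrime q.asIdeal)) P' ∈ associatedPrimes A M := by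
      have := Module.associatedPrimes.preimage_comap_associatedPrimes_eq_associatedPrimes_of_isLocalizedModule
        q.asIdeal.primeCompl (Localization.AtPrime q.asIdeal)
        (LocalizedModule.mkLinearMap q.asIdeal.primeCompl M)
      rw [← this] at hP'
      exact hP'
    have hPp := IsAssociatedPrime.isPrime (AssociatedPrimes.mem_iff.mp hP')
    let P : PrimeSpectrum A :=
      ⟨Ideal.comap (algebraMap A (Localization.AtPrime q.asIdeal)) P', Ideal.comap_isPrime _ _⟩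
    have hPq : P.asIdeal ≤ q.asIdeal := fun a ha => by
      by_contra ha'
      exact hPp.ne_top (Ideal.eq_top_of_isUnit_mem _ ha
        (IsLocalization.map_units _ (⟨a, ha'⟩ : q.asIdeal.primeCompl)))
    have hPV : P ∈ V := ((PrimeSpectrum.le_iff_specializes P q).mp hPq).mem_open V.2 hqV
    have hPx : P ∈ PrimeSpectrum.basicOpen x := isSMulRegular_iff_forall_ass.mp hx _ hP
    obtain ⟨hgP, hsP⟩ := hg ⟨P, hPV⟩
    have hmP := hmD P hPx
    have hsP' : s ⟨P, hxU hPx⟩ = LocalizedModule.mk r ⟨g, hgP⟩ := hsP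
    rw [hsP', LocalizedModule.smul'_mk, LocalizedModule.mk_eq] at hmP
    obtain ⟨t, ht⟩ := hmP
    simp only [Submonoid.smul_def, Submonoid.coe_one, one_smul] at ht
    refine t.2 (hle (algebraMap A _ (t : A)) ?_)
    rw [algebraMap_smul, LocalizedModule.smul'_mk, smul_sub, ht, sub_self, LocalizedModule.zero_mk]
  -- `m` is divisible by `x ^ n`
  obtain ⟨w, hw⟩ : ∃ w : M, (x ^ n) • w = m := by
    by_contra hne
    have hmne : (Submodule.Quotient.mk m : QuotSMulTop (x ^ n) M) ≠ 0 := fun h0 =>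
      hne (mem_pointwise_smul_top_iff.mp h0)
    obtain ⟨P, hP, hle⟩ := exists_ass_ge (R := A) hmne
    have hPp := IsAssociatedPrime.isPrime (AssociatedPrimes.mem_iff.mp hP)
    have hxP : x ^ n ∈ P := hle _ (by
      rw [← Submodule.Quotient.mk_smul]
      exact mem_pointwise_smul_top_iff.mpr ⟨m, rfl⟩)
    by_cases hJP : J ≤ P
    · exact (two_le_depth_atPrime_iff P hxP (hreg n)).mp (h ⟨P, hPp⟩ (hJ hJP)) hP
    · obtain ⟨r, g, hg, -, t, ht, hte⟩ := key ⟨P, hPp⟩ hJP
      refine hg ((hPp.mem_or_mem (hle (t * g) ?_)).resolve_left ht)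
      rw [← Submodule.Quotient.mk_smul]
      refine mem_pointwise_smul_top_iff.mpr ⟨t • r, ?_⟩
      rw [smul_sub, sub_eq_zero] at hte
      rw [smul_comm, hte, mul_smul]
  refine ⟨w, fun q => ?_⟩
  obtain ⟨r, g, hg, hs', t, ht, hte⟩ := key q.1 q.2
  refine hs'.trans (LocalizedModule.mk_eq.mpr ⟨⟨t, ht⟩, ?_⟩)
  simp only [Submonoid.smul_def, Submonoid.coe_one, one_smul]
  rw [← hw, smul_comm g (x ^ n) w, ← smul_sub, smul_comm t (x ^ n)] at hte
  have := (isSMulRegular_iff_right_eq_zero_of_smul.mp (hreg n)) _ hte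
  rwa [smul_sub, sub_eq_zero] at this

theorem two_le_depth_of_isClosedAlong (hZ : StableUnderSpecialization Z)
    (h : EGA4.IsClosedAlong Z M) (p : PrimeSpectrum A) (hpZ : p ∈ Z) :
    (2 : ℕ∞) ≤ LocCoh.depth (Localization.AtPrime p.asIdeal) (LocalizedModule p.asIdeal.primeCompl M) := by
  have hpure : EGA4.IsPureAlong Z M := fun J hJ => (h J hJ).1
  have hass := (isPureAlong_iff_ass hZ).mp hpure
  have hV : PrimeSpectrum.zeroLocus (p.asIdeal : Set A) ⊆ Z := fun q hq =>
    hZ ((PrimeSpectrum.le_iff_specializes p q).mp hq) hpZ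
  obtain ⟨x, hxp, hx⟩ := (exists_isSMulRegular_mem_iff (M := M) p.asIdeal).mpr fun P hP hle =>
    hass ⟨P, IsAssociatedPrime.isPrime (AssociatedPrimes.mem_iff.mp hP)⟩ hP (hV hle)
  rw [two_le_depth_atPrime_iff p.asIdeal hxp hx]
  intro hp
  obtain ⟨hpp, zb, hz⟩ := mem_ass_iff.mp hp
  obtain ⟨z, rfl⟩ := Submodule.Quotient.mk_surjective _ zb
  have hu : ∀ a ∈ p.asIdeal, ∃ u : M, x • u = a • z := fun a ha =>
    mem_pointwise_smul_top_iff.mp (by rw [Submodule.Quotient.mk_smul]; exact (hz a).mp ha)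
  choose! uu huu using hu
  have hex : ∀ q : EGA4.openCompl A p.asIdeal, ∃ a, a ∈ p.asIdeal ∧ a ∉ (q.1 : PrimeSpectrum A).asIdeal :=
    fun q => SetLike.not_le_iff_exists.mp q.2
  choose a hap haq using hex
  have heq : ∀ a b, a ∈ p.asIdeal → b ∈ p.asIdeal → b • uu a = a • uu b := fun a b ha hb => hx (by
    show x • b • uu a = x • a • uu b
    rw [smul_comm x b, huu a ha, smul_comm x a, huu b hb, smul_comm])
  obtain ⟨w, hw⟩ := (restrCompl_surjective_iff A p.asIdeal M).mp (h _ hV).2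
    (fun q => LocalizedModule.mk (uu (a q)) ⟨a q, haq q⟩) (fun q => by
      refine ⟨PrimeSpectrum.basicOpen (a q), haq q, fun q' hq' hle => hq' (hle (hap q)), uu (a q), a q,
        fun q' => ⟨q'.2, LocalizedModule.mk_eq.mpr ⟨1, ?_⟩⟩⟩
      simp only [one_smul, Submonoid.smul_def]
      exact heq _ _ (hap _) (hap _))
  have hzero : z - x • w = 0 := (restrCompl_injective_iff A p.asIdeal M).mp (h _ hV).1 _ fun q hq => by
    obtain ⟨t, ht⟩ := LocalizedModule.mk_eq.mp (hw ⟨q, hq⟩)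
    simp only [Submonoid.smul_def, Submonoid.coe_one, one_smul] at ht
    refine ⟨(t : A) * a ⟨q, hq⟩, q.asIdeal.primeCompl.mul_mem t.2 (haq ⟨q, hq⟩), ?_⟩
    rw [smul_sub, mul_smul, mul_smul, ← huu _ (hap _), smul_comm (t : A) x, ht, smul_comm x (t : A),
      smul_comm x (a ⟨q, hq⟩), sub_self]
  have h0 : (Submodule.Quotient.mk z : QuotSMulTop x M) = 0 :=
    mem_pointwise_smul_top_iff.mpr ⟨w, (sub_eq_zero.mp hzero).symm⟩
  exact hpp.ne_top (Ideal.eq_top_of_isUnit_mem _ ((hz 1).mpr (by rw [h0, smul_zero])) isUnit_one)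

theorem isClosedAlong_iff (hZ : StableUnderSpecialization Z) :
    EGA4.IsClosedAlong Z M ↔ ∀ p : PrimeSpectrum A, p ∈ Z →
      (2 : ℕ∞) ≤ LocCoh.depth (Localization.AtPrime p.asIdeal) (LocalizedModule p.asIdeal.primeCompl M) :=
  ⟨fun h p hp => two_le_depth_of_isClosedAlong hZ h p hp, isClosedAlong_of_two_le_depth hZ⟩

end Groth.Agent.Alg6
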